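import Cfsg.Agent.TID.ON.Chr
import Cfsg.Agent.TID.N9.Main
import Cfsg.Agent.TID.Suz.Main
import Cfsg.Agent.S2052
import Cfsg.Agent.S2078

/-!
# S4622, rows `O'N` and `Suz` (helper27)

`non : NON` and `nsuz : NSuz`.
-/

set_option autoImplicit false

namespace Cfsg.Agent.TID.ON

open Cfsg Subgroup
open Cfsg.Spor (ON)
open Cfsg.Agent.H999.ONThreeHyp (P)
open Cfsg.Agent.ONType.OddCent (LL)
open scoped commutatorElement

universe u

section pos

variable {X : Type u} [Group X] {S D : Subgroup X}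

theorem index_dvd (hS : Soc S) (e : S ≃* ON) : S.index ∣ 2 := by
  have := hS.normal
  let f : X →* Cfsg.Out ON :=
    (QuotientGroup.mk' (Inn ON)).comp ((MulAut.congr e).toMonoidHom.comp MulAut.conjNormal)
  have key : f.ker ≤ S := by
    intro x hx
    obtain ⟨y, hy⟩ := (QuotientGroup.eq_one_iff _).1 hx
    have h1 : ((e.symm y : S) : X)⁻¹ * x ∈ Cz S := by
      refine mem_Cz.2 fun s hs => ?_
      have h2 := congrArg (fun α : MulAut ON => ((e.symm (α (e ⟨s, hs⟩)) : S) : X)) hy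
      have h3 : ((e.symm y : S) : X) * s * ((e.symm y : S) : X)⁻¹ = x * s * x⁻¹ := by
        simpa [MulAut.congr] using h2
      calc s * (((e.symm y : S) : X)⁻¹ * x) =
          ((e.symm y : S) : X)⁻¹ * (((e.symm y : S) : X) * s * ((e.symm y : S) : X)⁻¹) * x := by group
        _ = _ := by rw [h3]; group
    rw [show Cz S = ⊥ from hS.cent, mem_bot, inv_mul_eq_one] at h1
    rw [← h1]
    exact (e.symm y).2
  refine (index_dvd_of_le key).trans ?_
  rw [index_ker, ← Cfsg.Agent.S2078.result]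
  exact card_subgroup_dvd_card _

/-- the image in `O'N` -/
def imS (e : S ≃* ON) (D : Subgroup X) : Subgroup ON := (D.subgroupOf S).map e.toMonoidHom

theorem mem_imS {e : S ≃* ON} {y : ON} : y ∈ imS e D ↔ ((e.symm y : S) : X) ∈ D := by
  rw [imS, mem_map_equiv, mem_subgroupOf]

theorem mem_imS' {e : S ≃* ON} {s : S} : e s ∈ imS e D ↔ (s : X) ∈ D := by
  rw [mem_imS, e.symm_apply_apply]

theorem exists_cj_im (e : S ≃* ON) (hDS : D ≤ S) (hD : IsPGroup 3 D) (hti : TI D) (hrk : Rk2 3 D) :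
    ∃ g : ON, imS e D = cj g P := by
  have hinj : Function.Injective fun y : ON => ((e.symm y : S) : X) :=
    S.subtype_injective.comp e.symm.injective
  refine exists_cj (hD.comap_subtype.map _) (ti_of_mem fun x g hx hx1 hg => ?_) ?_
  · rw [mem_imS] at hx hg
    rw [map_mul, map_mul, map_inv] at hg
    have h1 := hti.mem hx (fun h => hx1 (hinj (by simpa using h))) hg
    refine le_Nz (H := zpowers g) ?_ (mem_zpowers g)
    intro c hc y hy
    have h2 : ((e.symm c : S) : X) ∈ Nz D := by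
      obtain ⟨k, rfl⟩ := mem_zpowers_iff.1 hc
      rw [map_zpow, coe_zpow]
      exact zpow_mem h1 k
    rw [mem_imS] at hy ⊢
    rw [map_mul, map_mul, map_inv]
    exact conj_mem h2 hy
  · obtain ⟨V, h1, h2, h3⟩ := hrk
    refine ⟨imS e V, fun y hy => mem_imS.2 (h1 (mem_imS.1 hy)), ⟨⟨⟨fun a b => Subtype.ext (hinj ?_)⟩⟩, fun a ha => hinj ?_⟩,
      ?_⟩
    · have := el_comm h2 (mem_imS.1 a.2) (mem_imS.1 b.2)
      simpa using this
    · have := h2.2 _ (mem_imS.1 ha)
      simpa using this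
    · rw [imS, card_map_of_injective e.injective, Nat.card_congr (subgroupOfEquivOfLe (h1.trans hDS)).toEquiv, h3]

/-- **The position of `D`.** -/
theorem pos [Finite X] (h : AS 3 S D) (hS : Nonempty (S ≃* ON)) :
    S.index ∣ 2 ∧ D ≤ S ∧ (∀ g : X, ∃ s ∈ S, s * g ∈ Nz D) ∧ ∃ e : S ≃* ON, imS e D = P := by
  obtain ⟨e⟩ := hS
  have hn := h.soc.normal
  have hi := index_dvd h.soc e
  have hDS := Suz.le_of_index hn hi h.loc.pgrp
  obtain ⟨a, ha⟩ := exists_cj_im e hDS h.loc.pgrp h.loc.ti h.loc.rk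
  refine ⟨hi, hDS, fun g => ?_, e.trans (MulAut.conj a⁻¹), ?_⟩
  · have h1 : cj g D ≤ S := by
      rintro _ ⟨d, hd, rfl⟩
      exact hn.conj_mem d (hDS hd) g
    obtain ⟨b, hb⟩ := exists_cj_im e h1 (h.loc.pgrp.map _) (h.loc.ti.cj g) (h.loc.rk.map (MulAut.conj g).injective)
    have h3 : imS e D = cj (a * b⁻¹) (imS e (cj g D)) := by
      rw [hb, cj_cj, inv_mul_cancel_right, ha]
    refine ⟨e.symm (a * b⁻¹), (e.symm (a * b⁻¹)).2, ?_⟩
    have h4 : cj (((e.symm (a * b⁻¹) : S) : X) * g) D ≤ D := by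
      rintro _ ⟨d, hd, rfl⟩
      have h5 : e ⟨g * d * g⁻¹, h1 ⟨d, hd, rfl⟩⟩ ∈ imS e (cj g D) := mem_imS'.2 ⟨d, hd, rfl⟩
      have h6 : a * b⁻¹ * e ⟨g * d * g⁻¹, h1 ⟨d, hd, rfl⟩⟩ * (a * b⁻¹)⁻¹ ∈ imS e D := by
        rw [h3]
        exact ⟨_, h5, rfl⟩
      rw [mem_imS, map_mul, map_mul, map_inv, e.symm_apply_apply] at h6
      change ((e.symm (a * b⁻¹) : S) : X) * g * d * (((e.symm (a * b⁻¹) : S) : X) * g)⁻¹ ∈ D
      have h7 : ((e.symm (a * b⁻¹) : S) : X) * g * d * (((e.symm (a * b⁻¹) : S) : X) * g)⁻¹ =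
          ((e.symm (a * b⁻¹) : S) : X) * (g * d * g⁻¹) * ((e.symm (a * b⁻¹) : S) : X)⁻¹ := by group
      rw [h7]
      exact h6
    have h5 := eq_of_le_of_card_ge h4 (by rw [card_cj])
    rw [mem_normalizer_iff]
    intro x
    refine ⟨fun hx => h4 ⟨x, hx, rfl⟩, fun hx => ?_⟩
    rw [← h5, mem_cj] at hx
    simpa [mul_assoc] using hx
  · ext y
    rw [mem_imS, ← mem_imS', ha, mem_cj]
    simp [mul_assoc]

end pos

theorem perf_ON : _root_.commutator ON = ⊤ := by
  have hs : IsSimpleGroup ON := KFacts.ON.Cent.hON.1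
  obtain ⟨a, -, b, -, h1⟩ := loc9.nonab
  refine H80.Fpf.perfect_of_simple (a := a) (b := b) fun h => h1 ?_
  rw [h, mul_inv_cancel_right, mul_inv_cancel]
  exact one_mem _

/-- the multiplier has order three -/
theorem cube_eq_one {H : Type u} [Group H] [Finite H] {π : H →* ON} (hs : Function.Surjective π)
    (hc : π.ker ≤ center H) {w : H} (hw : π w = 1) (hw' : w ∈ _root_.commutator H) : w ^ 3 = 1 := by
  obtain ⟨h1, h2⟩ := H80.Fpf.perf_commutator hs hc perf_ON
  let E : Shrink.{0} (_root_.commutator H) ≃* _root_.commutator H := Shrink.mulEquiv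
  have hfin : Finite (Shrink.{0} (_root_.commutator H)) := Finite.of_equiv _ E.symm.toEquiv
  let σ : Shrink.{0} (_root_.commutator H) →* ON := (π.comp (_root_.commutator H).subtype).comp E.toMonoidHom
  have hσ : IsStemExtension σ := by
    refine ⟨fun k => ?_, fun x hx => mem_center_iff.2 fun y => E.injective (Subtype.ext ?_), fun x _ => ?_⟩
    · have h3 : k ∈ (_root_.commutator H).map π := by rw [h2]; trivial
      obtain ⟨m, hm, rfl⟩ := h3
      exact ⟨E.symm ⟨m, hm⟩, congrArg (fun v : _root_.commutator H => π v) (E.apply_symm_apply _)⟩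
    · rw [map_mul, map_mul]
      exact mem_center_iff.1 (hc hx) (E y)
    · have h3 : E.symm (E x) ∈ (_root_.commutator (_root_.commutator H)).map E.symm.toMonoidHom :=
        ⟨E x, by rw [h1]; trivial, rfl⟩
      rw [_root_.commutator_def (_root_.commutator H), map_commutator, E.symm_apply_apply] at h3
      exact commutator_mono le_top le_top h3
  obtain ⟨θ, hθ⟩ := Cfsg.Agent.S2052.result.2 _ σ hσ
  have h3 : E.symm ⟨w, hw'⟩ ∈ σ.ker :=
    (congrArg (fun v : _root_.commutator H => π v) (E.apply_symm_apply _)).trans hw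
  obtain ⟨t, ht⟩ := hθ ⟨_, h3⟩
  have h4 : t ^ 3 = 1 := by
    revert t
    exact fun t _ => (by decide : ∀ t : Multiplicative (ZMod 3), t ^ 3 = 1) t
  have h5 : E.symm ⟨w, hw'⟩ ^ 3 = 1 := by
    have h6 := congrArg Subtype.val (map_pow θ t 3)
    rw [h4, map_one, ht] at h6
    exact h6.symm
  rw [← map_pow, map_eq_one_iff _ E.symm.injective] at h5
  exact congrArg Subtype.val h5

/-- the central elements of the derived group are trivial -/
theorem eq_one {G : Type u} [Group G] [Finite G] {S : Subgroup (G ⧸ pPrimeCore 3 G)} (hC : Cen 3 S) (hi : S.index ∣ 2)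
    (e : S ≃* ON) {z : G} (hz : z ∈ pPrimeCore 3 G) (hz' : z ∈ _root_.commutator G) : z = 1 := by
  have : Fact (Nat.Prime 3) := ⟨Nat.prime_three⟩
  have hq := Box.cq_core hC.cen
  have hSn := hC.soc.normal
  let mk := QuotientGroup.mk' (pPrimeCore 3 G)
  let H : Subgroup G := S.comap mk
  have hHn : H.Normal := inferInstance
  let π : H →* ON := e.toMonoidHom.comp (mk.subgroupComap S)
  have hπ : ∀ h : H, ((e.symm (π h) : S) : G ⧸ pPrimeCore 3 G) = mk h := fun h =>
    congrArg Subtype.val (e.symm_apply_apply (mk.subgroupComap S h))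
  have hs : Function.Surjective π := e.surjective.comp (mk.subgroupComap_surjective_of_surjective S hq.surj)
  have hinj : ∀ a b : H, π a = π b → mk a = mk b := fun a b h => by rw [← hπ, ← hπ, h]
  have hker : ∀ a : H, π a = 1 → (a : G) ∈ pPrimeCore 3 G := fun a h =>
    (QuotientGroup.eq_one_iff _).1 ((hinj a 1 (h.trans (map_one π).symm)).trans (map_one mk))
  have hc : π.ker ≤ center H := fun a ha => mem_center_iff.2 fun b => Subtype.ext (mem_center_iff.1 (hC.cen (hker a ha)) b)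
  have hzH : z ∈ H := by
    change mk z ∈ S
    rw [show mk z = 1 from (QuotientGroup.eq_one_iff _).2 hz]
    exact one_mem S
  have hmap : (_root_.commutator H).map H.subtype = ⁅H, H⁆ := by
    rw [_root_.commutator_def, map_commutator, ← MonoidHom.range_eq_map, range_subtype]
  have hzc : (⟨z, hzH⟩ : H) ∈ _root_.commutator H := by
    have h1 : z ∈ ⁅H, H⁆ := by
      refine Suz.comm_mem ?_ (fun h hh => ?_) hz'
      · rw [index_comap_of_surjective _ hq.surj]
        exact hi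
      · have h3 : π ⟨h, hh⟩ ∈ (_root_.commutator H).map π := by
          rw [(H80.Fpf.perf_commutator hs hc perf_ON).2]; trivial
        obtain ⟨k, hk1, hk⟩ := h3
        refine ⟨k, hmap ▸ ⟨k, hk1, rfl⟩, hC.cen (hker (k⁻¹ * ⟨h, hh⟩) ?_)⟩
        rw [map_mul, map_inv, ← hk]
        exact inv_mul_cancel _
    rw [← hmap] at h1
    obtain ⟨k, hk, hkz⟩ := h1
    rwa [show (⟨z, hzH⟩ : H) = k from Subtype.ext hkz.symm]
  have hz1 : π ⟨z, hzH⟩ = 1 := by
    apply e.symm.injective
    apply Subtype.ext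
    rw [hπ, map_one]
    exact (QuotientGroup.eq_one_iff _).2 hz
  refine eq_one_of_pow (p := 3) (k := 1) ?_ fun h => not_dvd_core (p := 3) G (h.trans (orderOf_dvd_natCard _ hz))
  rw [pow_one]
  exact congrArg Subtype.val (cube_eq_one hs hc hz1 hzc)

/-- **The row `O'N`.** -/
theorem non : NON.{u} := by
  intro G _ _ S M B D hC hyp hAS _ _ _ hS
  obtain ⟨hi, hDS, hfr, e, he⟩ := pos hAS hS
  have he' : N9.imY e D = P := he
  exact N9.nine G S M B D ON e (LL P) hC hyp hi hDS hfr (he' ▸ loc9) (he' ▸ chr9 hyp.modu)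
    fun χ _ z hz hz' => by rw [eq_one hC hi e hz hz']

/-- **The row `Suz`.** -/
theorem nsuz : NSuz.{u} := Suz.nsuz_of N9.nine

end Cfsg.Agent.TID.ON
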