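import Cfsg.Agent.H996.PQ.Trace
import Cfsg.Agent.H582.Sph.Base
import Cfsg.Agent.Blocks.Local

/-!
# S4622, row `O'N`: spherical characters from an orbital matrix (helper27)

* `Orb.exists_sph` : the character of an eigenvector, with its values;
* `Orb.sameBlock` : congruent eigenvalues give characters in the same block.
-/

set_option autoImplicit false

namespace Cfsg.Agent.TID.ON

open Cfsg Cfsg.Agent.H582.Sph

universe u

/-- the suborbits and one orbital matrix -/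
structure Orb (G : Type u) [Group G] {X : Type} [Fintype X] [MulAction G X] (x₀ : X) {n : ℕ} (cls : X → Fin n)
    (c : Fin n) (γ : Fin n → G) (B : Fin n → Fin n → ℕ) (k : Fin n → ℕ) : Prop where
  hcls : ∀ g : G, g • x₀ = x₀ → ∀ x, cls (g • x) = cls x
  htr : ∀ x, ∃ g : G, g • x₀ = x₀ ∧ g • γ (cls x) • x₀ = x
  hB : ∀ i j, (Finset.univ.filter fun z => cls z = c ∧ cls (γ i • z) = j).card = B i j
  hk : ∀ i, (Finset.univ.filter fun y => cls y = i).card = k i

variable {G : Type u} [Group G] [Finite G] {X : Type} [Fintype X] [MulAction G X] {x₀ : X} {n : ℕ} {cls : X → Fin n}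
  {c : Fin n} {γ : Fin n → G} {B : Fin n → Fin n → ℕ} {k : Fin n → ℕ}

omit [Finite G] in
theorem Orb.sum_eq (h : Orb G x₀ cls c γ B k) (a : Fin n → ℚ) (i : Fin n) :
    ∑ z ∈ Finset.univ.filter (fun z => cls z = c), a (cls (γ i • z)) = ∑ j, (B i j : ℚ) * a j := by
  rw [← Finset.sum_fiberwise_of_maps_to (t := Finset.univ) (g := fun z => cls (γ i • z)) (fun _ _ => Finset.mem_univ _)]
  refine Finset.sum_congr rfl fun j _ => ?_
  rw [Finset.filter_filter]
  have h1 : ∀ y ∈ Finset.univ.filter (fun z => cls z = c ∧ cls (γ i • z) = j), a (cls (γ i • y)) = a j := by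
    intro y hy
    rw [(Finset.mem_filter.1 hy).2.2]
  rw [Finset.sum_congr rfl h1, Finset.sum_const, nsmul_eq_mul, h.hB]

omit [Finite G] in
theorem Orb.sum_smul (h : Orb G x₀ cls c γ B k) (φ : X → ℚ) {s : G} (hs : s • x₀ = x₀) :
    ∑ z ∈ Finset.univ.filter (fun z => cls z = c), φ (s • z) = ∑ z ∈ Finset.univ.filter (fun z => cls z = c), φ z := by
  refine Finset.sum_bijective (fun z => s • z) (MulAction.bijective s) (fun z => ?_) fun _ _ => rfl
  simp only [Finset.mem_filter, Finset.mem_univ, true_and, h.hcls s hs]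

theorem Orb.exists_sph (h : Orb G x₀ cls c γ B k) (a : Fin n → ℚ) (t : ℚ)
    (hBa : ∀ i, ∑ j, (B i j : ℚ) * a j = t * a i)
    (huniq : ∀ a' : Fin n → ℚ, (∀ i, ∑ j, (B i j : ℚ) * a' j = t * a' i) → ∀ i, a' i = a' (cls x₀) * a i)
    (ha : a (cls x₀) = 1) (d : ℕ) (hsumd : (d : ℚ) * ∑ i, (k i : ℚ) * a i ^ 2 = Fintype.card X) {δ : X → G}
    (hδ : ∀ x, δ x • x₀ = x) :
    ∃ χ : G → ℂ, IsIrrCharacter G χ ∧ χ 1 = d ∧ HasSph G x₀ δ (fun x => ((a (cls x) : ℚ) : ℂ)) χ := by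
  classical
  have := Fintype.ofFinite (MulAction.stabilizer G x₀)
  let V : Submodule ℚ (X → ℚ) :=
    { carrier := {φ | ∀ g : G, ∑ z ∈ Finset.univ.filter (fun z => cls z = c), φ (g • z) = t * φ (g • x₀)}
      add_mem' := by
        intro φ ψ h1 h2 g
        simp only [Pi.add_apply, Finset.sum_add_distrib, h1 g, h2 g]
        ring
      zero_mem' := by
        intro g
        simp
      smul_mem' := by
        intro b φ h1 g
        simp only [Pi.smul_apply, smul_eq_mul, ← Finset.mul_sum, h1 g]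
        ring }
  have hV : ∀ φ : X → ℚ, φ ∈ V ↔
      ∀ g : G, ∑ z ∈ Finset.univ.filter (fun z => cls z = c), φ (g • z) = t * φ (g • x₀) := fun _ => Iff.rfl
  have hX0 : (Fintype.card X : ℚ) ≠ 0 := by
    have : Nonempty X := ⟨x₀⟩
    exact_mod_cast Fintype.card_ne_zero
  have hd : (d : ℚ) ≠ 0 := fun h0 => hX0 (by rw [← hsumd, h0, zero_mul])
  obtain ⟨χ, h1, h2, h3, -⟩ := Cfsg.Agent.H996.PQ.exists_of_spherical_val (G := G)
    (fun x y => ⟨δ y * (δ x)⁻¹, by rw [mul_smul, inv_smul_eq_iff.2 (hδ x).symm, hδ]⟩) V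
    (fun g φ hφ => (hV _).2 fun s => by
      have := (hV _).1 hφ (g * s)
      simpa only [mul_smul] using this)
    (MulAction.stabilizer G x₀) x₀ (fun g => MulAction.mem_stabilizer_iff.symm) (fun x => a (cls x))
    ((hV _).2 fun g => by
      obtain ⟨q, hq, hx⟩ := h.htr (g • x₀)
      have h4 : ((γ (cls (g • x₀)))⁻¹ * q⁻¹ * g) • x₀ = x₀ := by
        rw [mul_smul, mul_smul, inv_smul_eq_iff, inv_smul_eq_iff, hx]
      have h5 := h.sum_smul (fun z => a (cls (γ (cls (g • x₀)) • z))) h4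
      rw [← hBa, ← h.sum_eq, ← h5]
      refine Finset.sum_congr rfl fun z _ => ?_
      rw [mul_smul, mul_smul, smul_inv_smul, ← h.hcls q hq (q⁻¹ • g • z), smul_inv_smul])
    (fun q hq x => by rw [h.hcls q hq]) ha
    (fun φ hφV hφ => by
      let a' : Fin n → ℚ := fun i => φ (γ i • x₀)
      have haφ : ∀ x, φ x = a' (cls x) := by
        intro x
        obtain ⟨g, hg, hx⟩ := h.htr x
        change φ x = φ (γ (cls x) • x₀)
        rw [← hφ g hg (γ (cls x) • x₀), hx]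
      have h4 : ∀ i, ∑ j, (B i j : ℚ) * a' j = t * a' i := by
        intro i
        rw [← h.sum_eq, ← (hV _).1 hφV (γ i)]
        exact Finset.sum_congr rfl fun z _ => (haφ _).symm
      refine ⟨a' (cls x₀), funext fun x => ?_⟩
      change φ x = a' (cls x₀) * a (cls x)
      rw [haφ, huniq a' h4])
    d (by
      rw [← hsumd]
      congr 1
      rw [← Finset.sum_fiberwise_of_maps_to (s := Finset.univ) (t := Finset.univ) (g := cls)
        (fun _ _ => Finset.mem_univ _)]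
      refine Finset.sum_congr rfl fun i _ => ?_
      have h4 : ∀ y ∈ Finset.univ.filter (fun y => cls y = i), a (cls y) ^ 2 = a i ^ 2 := by
        intro y hy
        rw [(Finset.mem_filter.1 hy).2]
      rw [Finset.sum_congr rfl h4, Finset.sum_const, nsmul_eq_mul, h.hk])
  have hX1 : (Fintype.card X : ℂ) ≠ 0 := by exact_mod_cast hX0
  refine ⟨χ, h1, h2, fun q hq x => by simp only [h.hcls q hq], by simp only [ha, Rat.cast_one], (d : ℂ) / Fintype.card X,
    div_ne_zero (by exact_mod_cast hd) hX1, fun g => ?_⟩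
  have h4 := h3 δ hδ g
  rw [Rat.cast_sum] at h4
  rw [div_mul_eq_mul_div, eq_div_iff hX1, mul_comm, h4]

omit [Finite G] in
theorem Orb.card_orbit (h : Orb G x₀ cls c γ B k) (y : X) :
    Nat.card (MulAction.orbit (MulAction.stabilizer G x₀) y) = k (cls y) := by
  rw [← h.hk, ← Nat.card_eq_finsetCard]
  refine Nat.card_congr (Equiv.subtypeEquivRight fun z => ?_)
  rw [Finset.mem_filter]
  constructor
  · rintro ⟨⟨s, hs⟩, rfl⟩
    exact ⟨Finset.mem_univ _, h.hcls s hs y⟩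
  · rintro ⟨-, h1⟩
    obtain ⟨q, hq, hz⟩ := h.htr z
    obtain ⟨s, hs, hy⟩ := h.htr y
    refine ⟨⟨q * s⁻¹, ?_⟩, ?_⟩
    · rw [MulAction.mem_stabilizer_iff, mul_smul, inv_smul_eq_iff.2 hs.symm, hq]
    · change (q * s⁻¹) • y = z
      rw [mul_smul, inv_smul_eq_iff.2 hy.symm, ← h1, hz]

theorem Orb.sameBlock (h : Orb G x₀ cls c γ B k) {p : ℕ} {M : Ideal AlgInt} (hM : IsPModular p M) {δ : X → G}
    (hδ : ∀ x, δ x • x₀ = x) {a b : Fin n → ℚ} {χ ψ : G → ℂ} (hχ : HasSph G x₀ δ (fun x => ((a (cls x) : ℚ) : ℂ)) χ)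
    (hψ : HasSph G x₀ δ (fun x => ((b (cls x) : ℚ) : ℂ)) ψ) (m : Fin n → ℤ)
    (hm : ∀ i, (k i : ℚ) * (a i - b i) = m i) (hp : ∀ i, (p : ℤ) ∣ m i) : SameBlock M χ ψ := by
  refine sameBlock_of_base hM hδ hχ hψ fun y => Or.inl ?_
  have h1 : ((k (cls y) : ℕ) : ℂ) * (((a (cls y) : ℚ) : ℂ) - ((b (cls y) : ℚ) : ℂ)) = ((m (cls y) : ℤ) : ℂ) := by
    exact_mod_cast congrArg (fun q : ℚ => (q : ℂ)) (hm (cls y))
  rw [h.card_orbit, h1, Blocks.Local.memLocalIdeal_intCast_iff hM]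
  exact hp _

end Cfsg.Agent.TID.ON
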