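import Cfsg.Agent.TID.ON.Grp
import Cfsg.Agent.TID.ON.Sph
import Cfsg.Agent.H707.Odd.ON
import Cfsg.Agent.H535.K4.ONFam
import Cfsg.Agent.H210.On7.Loc

/-!
# S4622, row `O'N`: the two characters (helper27)

`chr9` : the characters of degree 10944 and 52668 are in the same nonprincipal 3-block and have the values 9 and 18
at the elements of order 3.
-/

set_option autoImplicit false
set_option maxRecDepth 100000

namespace Cfsg.Agent.TID.ON

open Cfsg Subgroup
open Cfsg.Spor (ON)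
open Cfsg.Agent.Characters.Core
open Cfsg.Agent.H582.Sph (HasSph)
open Cfsg.Agent.H653.Sieve (deg deg_cast)
open Cfsg.Agent.H210.On7 (Data exists_data)
open Cfsg.Agent.H894.J4Two (apply_eq_of_isConj exists_col_rat orderOf_of_card)
open Cfsg.Agent.H999.ONThreeHyp (xx xx_ne P pow_three)

universe u

section orb

open Cfsg.Agent.ONType.Rep Cfsg.Agent.ONType.RepDef Cfsg.Agent.ONType.RepOrbData
open Cfsg.Agent.ONType.RepOrb (H)
open Cfsg.Agent.H707.Odd.ON

theorem orbON : Orb ON x0 cls 1 (fun i => word (ws i)) B k where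
  hcls g hg x := by
    have h1 : g ∈ H := (stab g).1 (congrArg Subtype.val hg)
    rw [cls_iff]
    have h2 : x.1 ∈ {p | (Uc (cls x)).testBit p = true} := cls_spec x
    rw [← orb] at h2
    obtain ⟨y, hy, e⟩ := h2
    have h3 : (g • x).1 ∈ {p : ℕ | ∃ x' ∈ H, rho x' (rp (cls x)) = p} :=
      ⟨g * y, H.mul_mem h1 hy, by rw [map_mul, Equiv.Perm.mul_apply, e]; rfl⟩
    rw [orb] at h3
    exact h3
  htr x := by
    have h2 : x.1 ∈ {p | (Uc (cls x)).testBit p = true} := cls_spec x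
    rw [← orb] at h2
    obtain ⟨y, hy, e⟩ := h2
    refine ⟨y, Subtype.ext ((stab y).2 hy), Subtype.ext ?_⟩
    rw [← ws_pt] at e
    exact e
  hB i j := by rw [← hB i j]
  hk i := by rw [← hk i]

/-- the spherical function of the character of degree 10944 -/
def a1 : Fin 5 → ℚ := ![1, 2 / 57, -53 / 3192, 23 / 7448, -4 / 931]

/-- the spherical function of the character of degree 52668 -/
def a2 : Fin 5 → ℚ := ![1, -4 / 399, -4 / 399, 1 / 931, 1 / 931]

theorem uniq1 (a' : Fin 5 → ℚ) (h : ∀ i, ∑ j, (B i j : ℚ) * a' j = 196 * a' i) (i : Fin 5) : a' i = a' 0 * a1 i := by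
  have h0 := h 0
  have h1 := h 1
  have h2 := h 2
  have h3 := h 3
  have h4 := h 4
  simp only [B, Fin.sum_univ_five, Matrix.cons_val] at h0 h1 h2 h3 h4
  norm_num at h0 h1 h2 h3 h4
  fin_cases i
  · show a' 0 = a' 0 * 1
    rw [mul_one]
  · show a' 1 = a' 0 * (2 / 57)
    linarith
  · show a' 2 = a' 0 * (-53 / 3192)
    linarith
  · show a' 3 = a' 0 * (23 / 7448)
    linarith
  · show a' 4 = a' 0 * (-4 / 931)
    linarith

theorem uniq2 (a' : Fin 5 → ℚ) (h : ∀ i, ∑ j, (B i j : ℚ) * a' j = -56 * a' i) (i : Fin 5) : a' i = a' 0 * a2 i := by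
  have h0 := h 0
  have h1 := h 1
  have h2 := h 2
  have h3 := h 3
  have h4 := h 4
  simp only [B, Fin.sum_univ_five, Matrix.cons_val] at h0 h1 h2 h3 h4
  norm_num at h0 h1 h2 h3 h4
  fin_cases i
  · show a' 0 = a' 0 * 1
    rw [mul_one]
  · show a' 1 = a' 0 * (-4 / 399)
    linarith
  · show a' 2 = a' 0 * (-4 / 399)
    linarith
  · show a' 3 = a' 0 * (1 / 931)
    linarith
  · show a' 4 = a' 0 * (1 / 931)
    linarith

theorem exists_pair {M : Ideal AlgInt} (hM : IsPModular 3 M) : ∃ χ ψ : IrrCharacter ON,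
    (χ : ON → ℂ) 1 = (10944 : ℕ) ∧ (ψ : ON → ℂ) 1 = (52668 : ℕ) ∧ SameBlock M (χ : ON → ℂ) ψ := by
  have := finite_ON
  have h0 : ∀ x : X, ∃ g : ON, g • x0 = x := fun x => by
    obtain ⟨g, hg⟩ := x.2
    exact ⟨g, Subtype.ext hg⟩
  choose δ hδ using h0
  obtain ⟨χ, h1, h2, h3⟩ := orbON.exists_sph a1 196 (by decide +kernel) (fun a' h i => by rw [cls_x0]; exact uniq1 a' h i)
    (by rw [cls_x0]; rfl) 10944 (by rw [card_X]; decide +kernel) hδ
  obtain ⟨ψ, h4, h5, h6⟩ := orbON.exists_sph a2 (-56) (by decide +kernel)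
    (fun a' h i => by rw [cls_x0]; exact uniq2 a' h i) (by rw [cls_x0]; rfl) 52668 (by rw [card_X]; decide +kernel) hδ
  exact ⟨⟨χ, h1⟩, ⟨ψ, h4⟩, h2, h5, orbON.sameBlock hM hδ h3 h6 ![0, 252, -42, 105, -315] (by decide +kernel)
    (by decide +kernel)⟩

end orb

section val

variable {G : Type u} [Group G] [Finite G]

theorem val_three (Δ : Data G) (χ : IrrCharacter G) : ∃ T : ℤ, (χ : G → ℂ) Δ.z = T ∧ T * T ≤ 3240 ∧
    (81 : ℤ) ∣ deg χ + 80 * T := by
  classical
  have := finite_irr (G := G)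
  have := Fintype.ofFinite (IrrCharacter G)
  have hz : ∀ w ∈ zpowers Δ.z, w ≠ 1 → IsConj w Δ.z := fun w hw h1 =>
    Δ.c3 w (orderOf_of_card Nat.prime_three (by rw [Nat.card_zpowers, Δ.oz]) hw h1)
  obtain ⟨T, -, vT, qT⟩ := exists_col_rat Nat.prime_three Δ.oz hz
  refine ⟨T χ, vT χ, ?_, ?_⟩
  · have h1 := Finset.single_le_sum (f := fun χ : IrrCharacter G => T χ * T χ) (fun χ _ => mul_self_nonneg _)
      (Finset.mem_univ χ)
    rw [qT, Δ.cz] at h1
    exact_mod_cast h1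
  · have := Fintype.ofFinite Δ.E
    obtain ⟨m, hm⟩ := SmallSimple.TheoremBCor.exists_sum_eq (isIrr_isCharacter χ.2) Δ.E
    rw [← Finset.add_sum_erase _ _ (Finset.mem_univ (1 : Δ.E)), Subgroup.coe_one, deg_cast,
      Finset.sum_congr rfl (g := fun _ => (T χ : ℂ)), Finset.sum_const,
      Finset.card_erase_of_mem (Finset.mem_univ _), Finset.card_univ, ← Nat.card_eq_fintype_card, Δ.cardE] at hm
    · refine ⟨m, ?_⟩
      have h6 : (((deg χ : ℤ) + 80 * T χ : ℤ) : ℂ) = ((81 * m : ℤ) : ℂ) := by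
        push_cast
        simp only [nsmul_eq_mul] at hm
        push_cast at hm
        linear_combination hm
      exact_mod_cast h6
    · intro b hb
      rw [← vT]
      exact apply_eq_of_isConj χ.2 (Δ.c3 b (Δ.expE b b.2 fun e => (Finset.mem_erase.1 hb).1 (Subtype.ext e)))

theorem val_five [IsSimpleGroup G] (hG : ¬ IsMulCommutative G) (Δ : Data G) {χ : IrrCharacter G} (hd : deg χ = 10944) :
    (χ : G → ℂ) Δ.y = ((-1 : ℤ) : ℂ) ∨ (χ : G → ℂ) Δ.y = ((4 : ℤ) : ℂ) := by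
  have := finite_irr (G := G)
  have := Fintype.ofFinite (IrrCharacter G)
  obtain ⟨A, B, C, T, F, v, -, hF, hmem⟩ := H535.K4.ON.exists_sys hG Δ
  have h1 := hmem χ
  rw [hd, show H535.K4.ON.fam3.vals 10944 = [[9, -1, -2], [9, 4, 8]] by decide +kernel] at h1
  simp only [List.mem_cons, List.cons.injEq, List.not_mem_nil, or_false] at h1
  rw [hF]
  rcases h1 with h1 | h1
  · exact Or.inl (by rw [h1.2.1])
  · exact Or.inr (by rw [h1.2.1])

theorem not_principal [IsSimpleGroup G] (hG : ¬ IsMulCommutative G) (Δ : Data G) {M : Ideal AlgInt}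
    (hM : IsPModular 3 M) {χ : IrrCharacter G} (hd : deg χ = 10944) : χ ∉ principalBlock M G := by
  intro h
  have := finite_irr (G := G)
  have := Fintype.ofFinite (IrrCharacter G)
  have h1 : MemLocalIdeal M (centralChar (fun _ : G => (1 : ℂ)) Δ.y - centralChar (χ : G → ℂ) Δ.y) := h Δ.y
  have h2 : (centralizer ({Δ.y} : Set G)).index = 2560086144 := by
    have h3 := (centralizer ({Δ.y} : Set G)).card_mul_index
    rw [Δ.cy, Δ.card] at h3
    omega
  rw [centralChar, centralChar, h2, deg_cast, hd] at h1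
  rcases val_five hG Δ hd with h3 | h3
  · rw [h3, show ((2560086144 : ℕ) : ℂ) * 1 / 1 - ((2560086144 : ℕ) : ℂ) * ((-1 : ℤ) : ℂ) / ((10944 : ℕ) : ℂ) =
      ((2560320070 : ℤ) : ℂ) by norm_num, Blocks.Local.memLocalIdeal_intCast_iff hM] at h1
    omega
  · rw [h3, show ((2560086144 : ℕ) : ℂ) * 1 / 1 - ((2560086144 : ℕ) : ℂ) * ((4 : ℤ) : ℂ) / ((10944 : ℕ) : ℂ) =
      ((2559150440 : ℤ) : ℂ) by norm_num, Blocks.Local.memLocalIdeal_intCast_iff hM] at h1
    omega

end val

theorem not_comm : ¬ IsMulCommutative ON := by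
  intro h
  obtain ⟨a, -, b, -, h1⟩ := loc9.nonab
  apply h1
  rw [h.is_comm.comm a b, mul_inv_cancel_right, mul_inv_cancel]
  exact one_mem _

/-- **The two characters.** -/
theorem chr9 {M : Ideal AlgInt} (hM : IsPModular 3 M) : N9.Chr9 M P := by
  have := KFacts.ON.Cent.finite_ON
  have hs : IsSimpleGroup ON := KFacts.ON.Cent.hON.1
  have : Fact (Nat.Prime 3) := ⟨Nat.prime_three⟩
  obtain ⟨Δ⟩ := exists_data
  obtain ⟨χ, ψ, h1, h2, h3⟩ := exists_pair hM
  have d1 : deg χ = 10944 := Blocks.Basic.charDegree_of_eq h1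
  have d2 : deg ψ = 52668 := Blocks.Basic.charDegree_of_eq h2
  have hx : xx 1 0 ∈ P := ⟨_, _, rfl⟩
  have hx1 : xx 1 0 ≠ 1 := xx_ne (by norm_num) (by norm_num) (Or.inl one_ne_zero)
  have hc := Δ.c3 _ (orderOf_eq_prime (pow_three hx) hx1)
  have n1 := not_principal not_comm Δ hM d1
  refine ⟨χ, ψ, xx 1 0, 1, 2, 10944, 52668, hx, hx1, n1, fun h => n1 ?_, by norm_num, by norm_num, ?_, ?_, h1, h2,
    fun f hf h => ?_⟩
  · exact Blocks.Fong.sameBlock_trans hM.2.1.isPrime h (Blocks.Fong.sameBlock_symm h3)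
  · obtain ⟨T, v, b, c⟩ := val_three Δ χ
    rw [d1] at c
    have bT : -56 ≤ T ∧ T ≤ 56 := by constructor <;> nlinarith
    rw [apply_eq_of_isConj χ.2 hc, v, show T = 9 by omega]
    norm_num
  · obtain ⟨T, v, b, c⟩ := val_three Δ ψ
    rw [d2] at c
    have bT : -56 ≤ T ∧ T ≤ 56 := by constructor <;> nlinarith
    rw [apply_eq_of_isConj ψ.2 hc, v, show T = 18 by omega]
    norm_num
  · have h4 : (f : ℤ) ^ 2 = (58140 : ℤ) ^ 2 := by
      push_cast at h
      linarith
    have h5 : f = 58140 := by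
      have h6 := (pow_left_inj₀ (Int.natCast_nonneg f) (by norm_num) two_ne_zero).1 h4
      exact_mod_cast h6
    rw [h5, Δ.card] at hf
    revert hf
    norm_num

end Cfsg.Agent.TID.ON
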