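import Cfsg.Agent.H999.ONThreeHyp
import Cfsg.Agent.Classification.Order360Iso
import Cfsg.Agent.TID.Basic
import Cfsg.Agent.TID.N9.Defs

/-!
# S4622, row `O'N`: the defect group and its local structure (helper27)

* `exists_cj` : a TI 3-subgroup of rank at least two is conjugate to `P`;
* `loc9` : the local structure of `P`.
-/

set_option autoImplicit false
set_option maxRecDepth 100000

namespace Cfsg.Agent.TID.ON

open Cfsg Subgroup
open Cfsg.Spor (ON)
open Cfsg.Agent.SporadicB.ON45Word (on)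
open Cfsg.Agent.KFacts.ON.Cent (hON finite_ON)
open Cfsg.Agent.KFacts.MulSpor.ON (w w_append)
open Cfsg.Agent.R04.ONThree (p)
open Cfsg.Agent.H999.ONThreeHyp (xx xx_mul xx_inv xx_mod xx_ne xx_eq P card_P pow_three conj_p x2_word D0 hyp order_f)
open Cfsg.Agent.ONType.OddCent (XX LL mem_XX LL_le)

theorem cent_eq {x : ON} (hx : x ∈ P) (hx1 : x ≠ 1) : C1 x = XX P := by
  have := finite_ON
  exact (hyp.centralizer_eq hx hx1).trans hyp.sup_LL

/-- an element of order dividing a power of three which centralizes `C(P)` lies in `P` -/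
theorem mem_P {y : ON} {k : ℕ} (hk : y ^ 3 ^ k = 1) (h : ∀ c ∈ XX P, c * y = y * c) : y ∈ P := by
  have := finite_ON
  exact hyp.mem_P_of_comm order_f hyp.tX (mem_XX.2 fun a ha => (h a (hyp.P_le ha)).symm) (Odd.pow (by decide)) hk
    (h _ hyp.tX).symm

theorem exists_mem {x : ON} (hx : orderOf x = 3) : ∃ g : ON, g * x * g⁻¹ ∈ P := by
  have := finite_ON
  obtain ⟨s, hs2, hsx⟩ := Cfsg.Agent.R04.ONThree.exists_inv hON x hx
  exact hyp.exists_conj_P hx hs2 hsx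

theorem cj_cj {Y : Type*} [Group Y] (a b : Y) (D : Subgroup Y) : cj a (cj b D) = cj (a * b) D := by
  ext x
  rw [mem_cj, mem_cj, mem_cj, mul_inv_rev]
  have : b⁻¹ * (a⁻¹ * x * a) * b = b⁻¹ * a⁻¹ * x * (a * b) := by group
  rw [this]

theorem cj_one {Y : Type*} [Group Y] (D : Subgroup Y) : cj 1 D = D := by
  ext x
  rw [mem_cj, inv_one, one_mul, mul_one]

theorem eq_P {D : Subgroup ON} (hD : IsPGroup 3 D) (hti : TI D) (hrk : Rk2 3 D) {x : ON} (hx : x ∈ D) (hxP : x ∈ P)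
    (hx1 : x ≠ 1) (hc : D ≤ C1 x) : D = P := by
  have := finite_ON
  have : Fact (Nat.Prime 3) := ⟨Nat.prime_three⟩
  have h1 : XX P ≤ Nz D := cent_eq hxP hx1 ▸ hti.cent_le hx hx1
  have h2 : D ≤ XX P := cent_eq hxP hx1 ▸ hc
  have h3 : D ≤ Nz (LL P) := h2.trans (Nz_le_Nz_char (commutator (XX P)) |>.trans' le_normalizer)
  have h4 : D ⊓ LL P = ⊥ := by
    have hs := hyp.simple_LL
    have hn : (D.subgroupOf (LL P)).Normal := normal_subgroupOf_of_le_normalizer ((LL_le P).trans h1)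
    rcases hs.eq_bot_or_eq_top_of_normal _ hn with h | h
    · rw [subgroupOf_eq_bot] at h
      exact disjoint_iff.1 h
    · exfalso
      rw [subgroupOf_eq_top] at h
      obtain ⟨n, hn⟩ := IsPGroup.iff_card.1 hD
      have h5 := card_dvd_of_le h
      rw [hyp.card_LL, hn] at h5
      have h6 : 2 ∣ 3 ^ n := (by norm_num : 2 ∣ 360).trans h5
      have h7 := Nat.prime_two.dvd_of_dvd_pow h6
      omega
  have h5 : D ≤ Cz (LL P) := le_Cz_of_disjoint h3 ((LL_le P).trans h1) h4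
  have h6 : D ≤ P := by
    intro d hd
    obtain ⟨k, hk⟩ := pow_eq_one_of_mem hD hd
    refine mem_P hk fun c hc => ?_
    obtain ⟨a, ha, l, hl, rfl⟩ := hyp.exists_mul hc
    rw [mul_assoc, mem_Cz.1 (h5 hd) l hl, ← mul_assoc, ← mem_XX.1 (h2 hd) a ha, mul_assoc]
  refine eq_of_le_of_card_ge h6 ?_
  rw [card_P]
  exact Nat.le_of_dvd Nat.card_pos hrk.sq_dvd

/-- **The defect group.** -/
theorem exists_cj {D : Subgroup ON} (hD : IsPGroup 3 D) (hti : TI D) (hrk : Rk2 3 D) : ∃ g : ON, D = cj g P := by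
  have := finite_ON
  have : Fact (Nat.Prime 3) := ⟨Nat.prime_three⟩
  obtain ⟨z, hz, ho, hc⟩ := exists_fix hD hD hrk.ne_bot le_normalizer
  obtain ⟨g, hg⟩ := exists_mem ho
  have h1 : g * z * g⁻¹ ≠ 1 := by
    intro h
    rw [conj_eq_one_iff] at h
    rw [h, orderOf_one] at ho
    omega
  have h2 : cj g D = P := by
    refine eq_P (hD.map _) (hti.cj g) (hrk.map (MulAut.conj g).injective) ⟨z, hz, rfl⟩ hg h1 ?_
    rintro _ ⟨d, hd, rfl⟩
    rw [mem_C1]
    change g * z * g⁻¹ * (g * d * g⁻¹) = g * d * g⁻¹ * (g * z * g⁻¹)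
    calc g * z * g⁻¹ * (g * d * g⁻¹) = g * (z * d) * g⁻¹ := by group
      _ = g * (d * z) * g⁻¹ := by rw [mem_C1.1 (hc hd)]
      _ = _ := by group
  exact ⟨g⁻¹, by rw [← h2, cj_cj, inv_mul_cancel, cj_one]⟩

/-! ### The normalizer -/

theorem mem_Nz {g : ON} (h : ∀ x ∈ P, g * x * g⁻¹ ∈ P) : g ∈ Nz P := by
  have := finite_ON
  rw [mem_normalizer_iff]
  exact fun x => Cfsg.Agent.ONType.OddCent.conj_mem_iff P h x

theorem step_p (i j : ℕ) : p * xx i j * p⁻¹ = xx (2 * j) i := by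
  have h : p * xx i j * p⁻¹ = (p * (on .a * on .b) * p⁻¹) ^ i *
      (p * (p * (on .a * on .b) * p⁻¹) * p⁻¹) ^ j := by
    rw [conj_pow, conj_pow, xx_eq]; group
  rw [h, D0.px2, ← pow_mul]
  have h2 : xx 0 i * xx (2 * j) 0 = xx (2 * j) i := by rw [xx_mul, zero_add, add_zero]
  rw [← h2, xx_eq, xx_eq, pow_zero, pow_zero, one_mul, mul_one]

/-- a second element of the normalizer -/
def u : ON := w [.c, .g, .c]

theorem w_ab : w [.a, .b] = on .a * on .b := by simp [w]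

theorem u10 : u * (on .a * on .b) * u⁻¹ = xx 1 1 := by
  have h : w [.c, .g, .c] * w [.a, .b] * (w [.c, .g, .c])⁻¹ =
      w ([.a, .b] ++ [.f, .c, .g, .c, .g, .a, .b, .g, .g, .g, .c, .g, .g, .g, .c, .f]) :=
    Cfsg.Agent.KFacts.ON.Words.conj _ _ _ (by decide +kernel)
  rw [w_append, ← x2_word, w_ab] at h
  rw [xx_eq, pow_one, pow_one]
  exact h

theorem u01 : u * (p * (on .a * on .b) * p⁻¹) * u⁻¹ = xx 1 2 := by
  have h : w [.c, .g, .c] * w [.f, .c, .g, .c, .g, .a, .b, .g, .g, .g, .c, .g, .g, .g, .c, .f] * (w [.c, .g, .c])⁻¹ =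
      w ([.a, .b] ++ ([.f, .c, .g, .c, .g, .a, .b, .g, .g, .g, .c, .g, .g, .g, .c, .f] ++
        [.f, .c, .g, .c, .g, .a, .b, .g, .g, .g, .c, .g, .g, .g, .c, .f])) :=
    Cfsg.Agent.KFacts.ON.Words.conj _ _ _ (by decide +kernel)
  rw [w_append, w_append, ← x2_word, w_ab] at h
  rw [xx_eq, pow_one, pow_two]
  exact h

theorem xx_pow (i j n : ℕ) : xx i j ^ n = xx (n * i) (n * j) := by
  induction n with
  | zero => rw [pow_zero, zero_mul, zero_mul, xx_eq, pow_zero, pow_zero, mul_one]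
  | succ n ih => rw [pow_succ, ih, xx_mul, add_mul, add_mul, one_mul, one_mul]

theorem step_u (i j : ℕ) : u * xx i j * u⁻¹ = xx (i + j) (i + 2 * j) := by
  have h : u * xx i j * u⁻¹ = (u * (on .a * on .b) * u⁻¹) ^ i * (u * (p * (on .a * on .b) * p⁻¹) * u⁻¹) ^ j := by
    rw [conj_pow, conj_pow, xx_eq]; group
  rw [h, u10, u01, xx_pow, xx_pow, xx_mul, mul_one, mul_one, mul_comm j 2]

theorem p_mem : p ∈ Nz P := mem_Nz fun _ hx => conj_p hx

theorem u_mem : u ∈ Nz P := by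
  refine mem_Nz ?_
  rintro _ ⟨i, j, rfl⟩
  exact ⟨_, _, step_u i j⟩

/-- conjugate to `xx 1 0` under the normalizer -/
def R (x : ON) : Prop := ∃ n ∈ Nz P, n * xx 1 0 * n⁻¹ = x

theorem R.p {i j : ℕ} (h : R (xx i j)) : R (xx (2 * j) i) := by
  obtain ⟨n, hn, h⟩ := h
  refine ⟨_ * n, mul_mem p_mem hn, ?_⟩
  rw [← step_p, ← h]
  group

theorem R.u {i j : ℕ} (h : R (xx i j)) : R (xx (i + j) (i + 2 * j)) := by
  obtain ⟨n, hn, h⟩ := h
  refine ⟨_ * n, mul_mem u_mem hn, ?_⟩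
  rw [← step_u, ← h]
  group

theorem from_x1 {x : ON} (hx : x ∈ P) (hx1 : x ≠ 1) : R x := by
  have c10 : R (xx 1 0) := ⟨1, one_mem _, by rw [one_mul, inv_one, mul_one]⟩
  have c01 : R (xx 0 1) := c10.p
  have c20 : R (xx 2 0) := c01.p
  have c02 : R (xx 0 2) := c20.p
  have c11 : R (xx 1 1) := c10.u
  have c21 : R (xx 2 1) := c11.p
  have c22 : R (xx 2 2) := c21.p
  have c12 : R (xx 1 2) := c01.u
  obtain ⟨i, j, rfl⟩ := hx
  rw [xx_mod] at hx1 ⊢
  have hi : i % 3 < 3 := Nat.mod_lt _ (by norm_num)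
  have hj : j % 3 < 3 := Nat.mod_lt _ (by norm_num)
  generalize i % 3 = a at hi hx1 ⊢
  generalize j % 3 = b at hj hx1 ⊢
  interval_cases a <;> interval_cases b
  · exact absurd (by rw [xx_eq, pow_zero, pow_zero, mul_one]) hx1
  all_goals assumption

/-- **The local structure of `P`.** -/
theorem loc9 : N9.Loc9 P (LL P) where
  card := card_P
  iso := by
    have := finite_ON
    have := hyp.simple_LL
    exact Cfsg.Agent.Classification.Order360Iso.nonempty_mulEquiv_alternating hyp.card_LL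
  cent x hx hx1 := by
    have := finite_ON
    exact hyp.centralizer_eq hx hx1
  trans x hx hx1 y hy hy1 := by
    obtain ⟨n, hn, rfl⟩ := from_x1 hx hx1
    obtain ⟨m, hm, rfl⟩ := from_x1 hy hy1
    exact ⟨m * n⁻¹, mul_mem hm (inv_mem hn), by group⟩
  nonab := by
    have := finite_ON
    refine ⟨u, u_mem, p, p_mem, ?_⟩
    rw [hyp.sup_LL]
    intro h
    have h1 := mem_XX.1 h (xx 2 1) ⟨_, _, rfl⟩
    have h2 : u * (p * xx 1 0 * p⁻¹) * u⁻¹ = xx 1 2 := by rw [step_p, step_u]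
    have h3 : p * (u * xx 1 0 * u⁻¹) * p⁻¹ = xx 2 1 := by rw [step_u, step_p]
    have h4 : xx 1 2 = xx 2 1 := by
      calc xx 1 2 = u * p * u⁻¹ * p⁻¹ * (p * (u * xx 1 0 * u⁻¹) * p⁻¹) * (u * p * u⁻¹ * p⁻¹)⁻¹ := by
            rw [← h2]; group
        _ = xx 2 1 := by rw [h3, h1, mul_inv_cancel_right]
    have h5 : xx 1 2 * xx 1 2 = 1 := by
      nth_rewrite 1 [h4]
      rw [xx_mul, xx_mod, xx_eq, pow_zero, pow_zero, mul_one]
    rw [xx_mul, xx_mod] at h5
    exact xx_ne (by norm_num) (by norm_num) (Or.inl (by norm_num)) h5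

end Cfsg.Agent.TID.ON
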